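import Cfsg.Agent.Lib.OutAut.ChevSylow

/-!
Regular unipotent elements of a Chevalley group lie in one conjugate of `U` only; the coefficient of a
fundamental root on `U`.
-/

set_option autoImplicit false
set_option linter.all false

namespace CfsgLib.TwistedE6F4

open Cfsg.Lie CfsgLib.Chevalley

variable {D : ChevalleyDatum} {A : Aux} {F : Type*} [Field F] (h : Full D A)

/-- No fundamental coefficient vanishes. -/
def Regular (D : ChevalleyDatum) (F : Type*) [Field F] (u : GL D.Idx F) : Prop :=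
  u ∈ D.posUnipotent F ∧ ∀ i < D.rank, u ∉ rootsU D F (posButSimple D i)

theorem posBut_le (i : ℕ) : rootsU D F (posButSimple D i) ≤ D.posUnipotent F :=
  rootsU_mono (T := {r | D.IsPosRoot r}) fun r hr => hr.1

include h

theorem posBut_conj {i : ℕ} (hi : i < D.rank) {b : GL D.Idx F} (hb : b ∈ D.posUnipotent F) :
    ∀ v ∈ rootsU D F (posButSimple D i), b * v * b⁻¹ ∈ rootsU D F (posButSimple D i) := by
  induction hb using rootsU_induction h.cert with
  | h1 => intro v hv; simpa using hv
  | hx r hr t =>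
    by_cases e : r = D.simple i
    · refine rootsU_conj_le h.cert fun s hs u => ?_
      obtain ⟨hn, hc⟩ := h.posButSimple_absorb hi (Or.inl e) s hs (e ▸ hs.2)
      obtain ⟨W, hW, eq⟩ := conj_xG h.toStd hr.1 hs.1.1 (e ▸ hs.2) hn hc t u
      rw [eq]
      exact mul_mem (xG_mem_rootsU h.cert hs u) hW
    · intro v hv
      have := xG_mem_rootsU (F := F) h.cert (S := posButSimple D i) ⟨hr, e⟩ t
      exact mul_mem (mul_mem this hv) (inv_mem this)
  | hmul a b _ _ ha hb =>
    intro v hv
    have := ha _ (hb v hv)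
    rwa [show a * b * v * (a * b)⁻¹ = a * (b * v * b⁻¹) * a⁻¹ by group]

theorem Regular.conj {u b : GL D.Idx F} (hu : Regular D F u) (hb : b ∈ D.posUnipotent F) :
    Regular D F (b * u * b⁻¹) := by
  refine ⟨mul_mem (mul_mem hb hu.1) (inv_mem hb), fun i hi hm => hu.2 i hi ?_⟩
  have := posBut_conj h hi (inv_mem hb) _ hm
  rwa [show b⁻¹ * (b * u * b⁻¹) * b⁻¹⁻¹ = u by group] at this

/-- A regular unipotent element lies in one conjugate of `U` only. -/
theorem mem_borel_of_regular {g u : GL D.Idx F} (hg : g ∈ D.group F) (hu : Regular D F u)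
    (hc : g * u * g⁻¹ ∈ D.posUnipotent F) : g ∈ D.borelSubgroup F := by
  obtain ⟨a, ha, n, hnm, b, hb, rfl⟩ := exists_bnu h hg
  obtain ⟨σ, η, hA⟩ := exists_acts h hnm
  have hu' := hu.conj h hb
  have h3 : n * (b * u * b⁻¹) * n⁻¹ ∈ D.posUnipotent F := by
    have := mul_mem (mul_mem (inv_mem ha) hc) ha
    rwa [show a⁻¹ * (a * n * b * u * (a * n * b)⁻¹) * a = n * (b * u * b⁻¹) * n⁻¹ by group] at this
  obtain ⟨x, hx, y, hy, e⟩ := split_pos h.toStd
    (P := {r | ∀ s : Fin D.nroots, (s : ℕ) = r → D.IsPosRoot (σ s)})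
    (Q := invSet D σ) (fun r hr => by
      rcases h.pos.pos_or_neg (σ ⟨r, hr.1⟩).isLt with hp | hneg
      · exact Or.inl fun s hs => (show s = ⟨r, hr.1⟩ from Fin.ext hs) ▸ hp
      · exact Or.inr ⟨hr, ⟨r, hr.1⟩, rfl, hneg⟩) hu'.1
  have hxU : n * x * n⁻¹ ∈ D.posUnipotent F :=
    hA.conj_rootsU (T := {r | D.IsPosRoot r}) (fun s hs => hs.2 s rfl) x hx
  have hy1 : y = 1 := by
    have h4 : n * y * n⁻¹ ∈ D.posUnipotent F := by
      have := mul_mem (inv_mem hxU) h3
      rwa [e, show (n * x * n⁻¹)⁻¹ * (n * (x * y) * n⁻¹) = n * y * n⁻¹ by group] at this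
    have h5 : n * y * n⁻¹ ∈ D.borelSubgroup F ⊓ D.negUnipotent F :=
      ⟨Subgroup.mem_sup_left h4, hA.conj_invSet h y (rootsU_mono (fun r hr => hr.2) hy)⟩
    rw [borel_inf_negUnipotent h, Subgroup.mem_bot] at h5
    exact conj_eq_one_iff.1 h5
  rw [hy1, mul_one] at e
  have hpos : ∀ i : Fin D.rank, D.IsPosRoot (σ (smp h.cert i)) := by
    intro i
    refine (h.pos.pos_or_neg (σ (smp h.cert i)).isLt).resolve_right fun hneg => hu'.2 i i.isLt ?_
    rw [e]
    refine rootsU_mono (T := posButSimple D i) ?_ hx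
    intro r hr
    refine ⟨hr.1, fun er => ?_⟩
    have h6 := hr.2 (smp h.cert i) er.symm
    have h7 := h.pos.phi_pos h6
    have h8 := h.pos.phi_neg hneg
    omega
  exact mul_mem (mul_mem (Subgroup.mem_sup_left ha)
    (Subgroup.mem_sup_right (mem_diagonal_of_perm h hnm hA hpos))) (Subgroup.mem_sup_left hb)

/-- The sum of the coordinates of a root away from one node is a weight. -/
theorem weightCoef_away (i : ℕ) :
    WeightCoef D fun s => ((List.range D.rank).map fun k => (if k = i then 0 else 1) * crd A k s).sum := by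
  refine weightCoef_of_graded h.cert fun a x y hxy => ?_
  have e : ∀ b : D.Idx, wt D (fun s => ((List.range D.rank).map fun k => (if k = i then 0 else 1) * crd A k s).sum) b =
      ((List.range D.rank).map fun k => (if k = i then (0 : ℤ) else 1) * wt D (crd A k) b).sum := by
    intro b
    rcases b with j | s
    · simp [wt]
    · rfl
  rw [e, e, e, ← List.sum_map_add]
  congr 1
  refine List.map_congr_left fun k hk => ?_
  rw [graded_crd h.cert (List.mem_range.1 hk) a x y hxy, mul_add]

theorem eq_zero_of_simple_mem {i : ℕ} (hi : i < D.rank) {t : F}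
    (ht : xG h.cert (D.simple i) t ∈ rootsU D F (posButSimple D i)) : t = 0 := by
  set w : ℕ → ℤ := fun s => ((List.range D.rank).map fun k => (if k = i then 0 else 1) * crd A k s).sum
    with hw
  have hsum : ∀ s, w s = ∑ k ∈ Finset.range D.rank, (if k = i then 0 else 1) * crd A k s := fun s => by
    rw [hw]; rfl
  have hwpos : ∀ r ∈ posButSimple D i, 1 ≤ w r := by
    rintro r ⟨hr, hne⟩
    obtain ⟨k, hk, hki, hnz⟩ : ∃ k < D.rank, k ≠ i ∧ crd A k r ≠ 0 := by
      by_contra hcon
      simp only [not_exists, not_and, not_not] at hcon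
      exact hne (h.eq_simple hr hi hcon)
    rw [hsum]
    refine le_trans ?_ (Finset.single_le_sum (fun j hj => ?_) (Finset.mem_range.2 hk))
    · rw [if_neg hki, one_mul]
      exact Int.lt_iff_add_one_le.1 (lt_of_le_of_ne (h.crd_nonneg hr hk) (Ne.symm hnz))
    · split_ifs
      · simp
      · simpa using h.crd_nonneg hr (Finset.mem_range.1 hj)
  have hp := h.cert.wf.simple_lt i hi
  have h1 := raiseBy_rootsU_weight h.cert (weightCoef_away h i) (fun r hr => hr.1.1) zero_le_one hwpos ht
  obtain ⟨j, hj, hne⟩ := h.pos.cor_primitive h.cert (K := F) hp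
  have hlt := h.cert.wf.neg_lt _ hp
  have hne' := h.cert.wf.neg_ne _ hp
  have hw0 : w (D.neg (D.simple i)) = 0 := by
    rw [hsum]
    refine Finset.sum_eq_zero fun k hk => ?_
    rw [(neg_facts h.cert (Finset.mem_range.1 hk) hp).1, crd_simple h.cert (Finset.mem_range.1 hk) hi]
    split_ifs <;> simp
  by_contra ht0
  have h2 := h1 (Sum.inl ⟨j, hj⟩) (Sum.inr ⟨D.neg (D.simple i), hlt⟩) (by
    rw [coe_xG, x_eq_xR D F hp, Matrix.sub_apply, Matrix.one_apply_ne (by simp), sub_zero]
    simp [xR, cor, ChevalleyDatum.neg] at hne ⊢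
    exact ⟨fun h => hne' (by simpa [ChevalleyDatum.neg] using h), hne, ht0⟩)
  simp only [wt, Sum.elim_inl, Sum.elim_inr] at h2
  simp only [hw] at hw0
  linarith

omit h in
/-- `c` is the coefficient of the fundamental root `i` in `g`. -/
def Co (hC : Cert D A) (i : ℕ) (c : F) (g : GL D.Idx F) : Prop :=
  (xG hC (D.simple i) c)⁻¹ * g ∈ rootsU D F (posButSimple D i)

variable {i : ℕ} (hi : i < D.rank)

include hi

theorem Co.unique {c c' : F} {g : GL D.Idx F} (h1 : Co h.cert i c g) (h2 : Co h.cert i c' g) : c = c' := by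
  have := mul_mem h1 (inv_mem h2)
  rw [show (xG h.cert (D.simple i) c)⁻¹ * g * ((xG h.cert (D.simple i) c')⁻¹ * g)⁻¹ =
    (xG h.cert (D.simple i) c)⁻¹ * xG h.cert (D.simple i) c' by group, xG_inv, xG_mul] at this
  exact (neg_add_eq_zero.1 (eq_zero_of_simple_mem h hi this))

theorem Co.mul {c c' : F} {g g' : GL D.Idx F} (h1 : Co h.cert i c g) (h2 : Co h.cert i c' g') :
    Co h.cert i (c + c') (g * g') := by
  have hx : xG h.cert (D.simple i) c' ∈ D.posUnipotent F :=
    xG_mem_rootsU (S := {r | D.IsPosRoot r}) h.cert (h.simple_pos hi) c'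
  have := mul_mem (posBut_conj h hi (inv_mem hx) _ h1) h2
  rw [Co, ← xG_mul]
  convert this using 1
  group

theorem exists_co {g : GL D.Idx F} (hg : g ∈ D.posUnipotent F) : ∃ c, Co h.cert i c g := by
  obtain ⟨c, v, hv, rfl⟩ := exists_split_simple h hi hg
  exact ⟨c, by rwa [Co, inv_mul_cancel_left]⟩

theorem Co.conj {c : F} {g b : GL D.Idx F} (h1 : Co h.cert i c g) (hb : b ∈ D.posUnipotent F) :
    Co h.cert i c (b * g * b⁻¹) := by
  obtain ⟨a, ha⟩ := exists_co h hi hb
  obtain ⟨a', ha'⟩ := exists_co h hi (inv_mem hb)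
  have h0 : Co h.cert i (0 : F) (1 : GL D.Idx F) := by simp [Co, xG_zero, one_mem]
  have e : a + a' = 0 := by
    have := ha.mul h hi ha'
    rw [mul_inv_cancel] at this
    exact this.unique h hi h0
  have := (ha.mul h hi h1).mul h hi ha'
  rwa [show a + c + a' = c by linear_combination e] at this

omit hi in
theorem Co.conj_scale {n : GL D.Idx F} {f : ℕ → F}
    (hn : ∀ r, r < D.nroots → ∀ t : F, n * xG h.cert r t * n⁻¹ = xG h.cert r (f r * t)) {c : F}
    {g : GL D.Idx F} (hi : i < D.rank) (h1 : Co h.cert i c g) :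
    Co h.cert i (f (D.simple i) * c) (n * g * n⁻¹) := by
  rw [Co, ← hn _ (h.cert.wf.simple_lt i hi)]
  have := rootsU_conj_le h.cert (K := rootsU D F (posButSimple D i)) (g := n)
    (fun r hr t => by rw [hn r hr.1.1]; exact xG_mem_rootsU h.cert hr _) _ h1
  convert this using 1
  group

end CfsgLib.TwistedE6F4
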