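import Cfsg.Agent.Lib.TwistedE6F4.Embed
import Cfsg.Agent.Lib.TwistedE6F4.Regular
import Cfsg.Agent.Lib.Chevalley.CharTorus

/-!
`F₄(2)` in `²E₆(2)`: three subgroups, conjugate under the outer diagonal automorphisms only.
-/

set_option autoImplicit false
set_option linter.all false
set_option maxRecDepth 20000
set_option maxHeartbeats 1000000

namespace CfsgLib.TwistedE6F4

open Cfsg.Lie CfsgLib.Chevalley CfsgLib.TwistedE6Involutions

variable {K : Type*} [Field K] [CharP K 2]

theorem conj_ev {n : GL chevE6.Idx K} (f : ℕ → ℕ) : ∀ {w : List ℕ},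
    (∀ a ∈ w, ∀ t : K, n * X a t * n⁻¹ = X (f a) t) → n * ev w * n⁻¹ = ev (w.map f) := by
  intro w
  induction w with
  | nil => intro; simp [ev]
  | cons a w ih =>
    intro h
    rw [ev_cons, conj_mul', h a (by simp), ih fun b hb => h b (List.mem_cons_of_mem _ hb), List.map_cons,
      ev_cons]

/-- The root moves of the four monomial elements. -/
def mvW : ℕ → ℕ → ℕ
  | 0, a => chevE6.reflectRoot 3 a
  | 1, a => chevE6.reflectRoot 1 a
  | 2, a => chevE6.reflectRoot 5 (chevE6.reflectRoot 0 a)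
  | _, a => chevE6.reflectRoot 4 (chevE6.reflectRoot 2 a)

/-- Applicability of a monomial element. -/
def mvOK : ℕ → ℕ → Bool
  | 0, a => moveOne 3 a (mvW 0 a)
  | 1, a => moveOne 1 a (mvW 1 a)
  | 2, a => moveTwo 0 5 a (mvW 2 a)
  | _, a => moveTwo 2 4 a (mvW 3 a)

/-- One generation step. -/
def stepOK (x : ℕ × ℕ × ℕ) : Bool :=
  (orbW x.2.2).all (mvOK x.2.1) && (norm ((orbW x.2.2).map (mvW x.2.1)) == norm (orbW x.1))

variable {σ : K →+* K} (S : Setting σ 2)

include S

theorem Y_step {r i r' : ℕ} (h : stepOK (r, i, r') = true) (hi : i < 4) (hm : Y K r' ∈ twistedE6 K 2) :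
    Y K r ∈ twistedE6 K 2 := by
  simp only [stepOK, Bool.and_eq_true, List.all_eq_true] at h
  have e := ev_congr (K := K) h.2
  interval_cases i
  · rw [Y, ← e, ← conj_ev (n := w0) (mvW 0) fun a ha t => w0_move (h.1 a ha) t]
    exact S.conj_mem S.w0_mem hm
  · rw [Y, ← e, ← conj_ev (n := w1) (mvW 1) fun a ha t => w1_move (h.1 a ha) t]
    exact S.conj_mem S.w1_mem hm
  · rw [Y, ← e, ← conj_ev (n := w2) (mvW 2) fun a ha t => w2_move (h.1 a ha) t]
    exact S.conj_mem S.w2_mem hm
  · rw [Y, ← e, ← conj_ev (n := w3) (mvW 3) fun a ha t => w3_move (h.1 a ha) t]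
    exact S.conj_mem S.w3_mem hm

omit S in
theorem steps_ok : ([(26, 0, 24), (23, 1, 24), (22, 0, 25), (30, 3, 25), (28, 0, 27), (34, 2, 27), (20, 3, 27), (14, 2, 33), (31, 3, 26), (21, 0, 23), (17, 3, 22), (41, 2, 30), (29, 1, 28), (35, 2, 28), (19, 0, 20), (13, 2, 20), (32, 0, 31), (42, 2, 31), (16, 3, 21), (6, 2, 17), (36, 2, 29), (37, 3, 35), (18, 1, 19), (12, 2, 19), (43, 2, 32), (15, 0, 16), (5, 2, 16), (38, 3, 36), (11, 2, 18), (10, 3, 12), (45, 3, 43), (4, 2, 15), (39, 0, 38), (9, 3, 11), (46, 0, 45), (2, 3, 4), (40, 3, 39), (8, 0, 9), (47, 1, 46), (1, 0, 2), (44, 2, 40), (7, 3, 8), (0, 1, 1), (3, 2, 7)] : List (ℕ × ℕ × ℕ)).all stepOK = true := by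
  decide +kernel

theorem Y_mem : ∀ r < 48, Y K r ∈ twistedE6 K 2 := by
  have h := steps_ok
  simp only [List.all_cons, List.all_nil, Bool.and_eq_true, and_true] at h
  obtain ⟨h26, h23, h22, h30, h28, h34, h20, h14, h31, h21, h17, h41, h29, h35, h19, h13, h32, h42, h16, h6, h36, h37, h18, h12, h43, h15, h5, h38, h11, h10, h45, h4, h39, h9, h46, h2, h40, h8, h47, h1, h44, h7, h0, h3⟩ := h
  have y24 : Y K 24 ∈ twistedE6 K 2 := by simpa [Y, ev, orbW, orbF4] using S.mem_1 (map_one σ)
  have y25 : Y K 25 ∈ twistedE6 K 2 := by simpa [Y, ev, orbW, orbF4] using S.mem_0 (map_one σ)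
  have y27 : Y K 27 ∈ twistedE6 K 2 := by simpa [Y, ev, orbW, orbF4, D] using S.mem_3 (1 : K)
  have y33 : Y K 33 ∈ twistedE6 K 2 := by simpa [Y, ev, orbW, orbF4, D] using S.mem_2 (1 : K)
  have y26 := Y_step S h26 (by norm_num) y24
  have y23 := Y_step S h23 (by norm_num) y24
  have y22 := Y_step S h22 (by norm_num) y25
  have y30 := Y_step S h30 (by norm_num) y25
  have y28 := Y_step S h28 (by norm_num) y27
  have y34 := Y_step S h34 (by norm_num) y27
  have y20 := Y_step S h20 (by norm_num) y27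
  have y14 := Y_step S h14 (by norm_num) y33
  have y31 := Y_step S h31 (by norm_num) y26
  have y21 := Y_step S h21 (by norm_num) y23
  have y17 := Y_step S h17 (by norm_num) y22
  have y41 := Y_step S h41 (by norm_num) y30
  have y29 := Y_step S h29 (by norm_num) y28
  have y35 := Y_step S h35 (by norm_num) y28
  have y19 := Y_step S h19 (by norm_num) y20
  have y13 := Y_step S h13 (by norm_num) y20
  have y32 := Y_step S h32 (by norm_num) y31
  have y42 := Y_step S h42 (by norm_num) y31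
  have y16 := Y_step S h16 (by norm_num) y21
  have y6 := Y_step S h6 (by norm_num) y17
  have y36 := Y_step S h36 (by norm_num) y29
  have y37 := Y_step S h37 (by norm_num) y35
  have y18 := Y_step S h18 (by norm_num) y19
  have y12 := Y_step S h12 (by norm_num) y19
  have y43 := Y_step S h43 (by norm_num) y32
  have y15 := Y_step S h15 (by norm_num) y16
  have y5 := Y_step S h5 (by norm_num) y16
  have y38 := Y_step S h38 (by norm_num) y36
  have y11 := Y_step S h11 (by norm_num) y18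
  have y10 := Y_step S h10 (by norm_num) y12
  have y45 := Y_step S h45 (by norm_num) y43
  have y4 := Y_step S h4 (by norm_num) y15
  have y39 := Y_step S h39 (by norm_num) y38
  have y9 := Y_step S h9 (by norm_num) y11
  have y46 := Y_step S h46 (by norm_num) y45
  have y2 := Y_step S h2 (by norm_num) y4
  have y40 := Y_step S h40 (by norm_num) y39
  have y8 := Y_step S h8 (by norm_num) y9
  have y47 := Y_step S h47 (by norm_num) y46
  have y1 := Y_step S h1 (by norm_num) y2
  have y44 := Y_step S h44 (by norm_num) y40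
  have y7 := Y_step S h7 (by norm_num) y8
  have y0 := Y_step S h0 (by norm_num) y1
  have y3 := Y_step S h3 (by norm_num) y7
  intro r hr
  interval_cases r <;> assumption

omit S in
/-- The functional giving the outer diagonal automorphism. -/
def vfun (r : ℕ) : ℤ := (chevE6.coroot.getD r #[]).getD 0 0 - (chevE6.coroot.getD r #[]).getD 5 0

omit S in
theorem vfun_table : ∀ r : Fin 72, vfun (chevE6.neg r) = -vfun r ∧
    ∀ s : Fin 72, (match chevE6.chainRoot r s 1 with
      | none => true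
      | some k => vfun k == vfun r + vfun s) = true := by
  decide +kernel

omit S in
theorem vfun_gen : ((([46, 25, 39, 32] : List ℕ).all fun r => vfun r == 0) &&
    ([(56, 36), (15, 35), (42, 37), (29, 34)] : List (ℕ × ℕ)).all fun p => vfun p.2 == -vfun p.1) = true := by
  decide +kernel

/-- The character attached to a cube root of unity. -/
noncomputable def chW (w : Kˣ) (k : ℤ) (r : ℕ) : Kˣ := w ^ (k * vfun r)

omit S in
theorem chW_char (w : Kˣ) (k : ℤ) : chevE6.IsRootCharacter (chW w k) := by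
  refine ⟨fun r hr => ?_, fun r s m hr hs hm => ?_⟩
  · have e : vfun (chevE6.neg r) = -vfun r := (vfun_table ⟨r, hr⟩).1
    rw [chW, chW, e, mul_neg, zpow_neg]
  · have e := (vfun_table ⟨r, hr⟩).2 ⟨s, hs⟩
    rw [hm] at e
    rw [chW, chW, chW, ← zpow_add, ← mul_add, beq_iff_eq.1 e]

/-- The outer diagonal element. -/
noncomputable def dW (w : Kˣ) (k : ℤ) : GL chevE6.Idx K :=
  ⟨chevE6.charDiag K (chW w k), chevE6.charDiag K (fun r => (chW w k r)⁻¹),
    by rw [ChevalleyDatum.charDiag, ChevalleyDatum.charDiag, Matrix.diagonal_mul_diagonal, ← Matrix.diagonal_one];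
       congr 1; funext a; rcases a with j | r <;> simp,
    by rw [ChevalleyDatum.charDiag, ChevalleyDatum.charDiag, Matrix.diagonal_mul_diagonal, ← Matrix.diagonal_one];
       congr 1; funext a; rcases a with j | r <;> simp⟩

omit S in
theorem dW_mul (w : Kˣ) (j k : ℤ) : dW w j * dW w k = dW w (j + k) := by
  refine Units.ext ?_
  show chevE6.charDiag K _ * chevE6.charDiag K _ = chevE6.charDiag K _
  rw [ChevalleyDatum.charDiag, ChevalleyDatum.charDiag, ChevalleyDatum.charDiag, Matrix.diagonal_mul_diagonal]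
  congr 1
  funext a
  rcases a with i | r
  · simp
  · simp [chW, add_mul, zpow_add]

omit S in
theorem dW_zero (w : Kˣ) : dW w 0 = 1 := by
  refine Units.ext ?_
  show chevE6.charDiag K _ = 1
  rw [ChevalleyDatum.charDiag, ← Matrix.diagonal_one]
  congr 1
  funext a
  rcases a with i | r <;> simp [chW]

omit S in
theorem dW_inv (w : Kˣ) (k : ℤ) : (dW w k)⁻¹ = dW w (-k) :=
  inv_eq_of_mul_eq_one_right (by rw [dW_mul, add_neg_cancel, dW_zero])

omit S in
theorem dW_conj (w : Kˣ) (k : ℤ) {r : ℕ} (hr : r < chevE6.nroots) (t : K) :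
    dW w k * xG full.cert r t * (dW w k)⁻¹ = xG full.cert r ((chW w k r : K) * t) :=
  Units.ext (by
    rw [Units.val_mul, Units.val_mul, coe_xG, coe_xG]
    exact charDiag_conj_x full (chW_char w k) hr t)

omit S in
theorem conj_word (n : GL chevE6.Idx K) : ∀ (l : List (ℕ × K)) (f : ℕ → K),
    (∀ p ∈ l, n * xG full.cert p.1 p.2 * n⁻¹ = xG full.cert p.1 (f p.1 * p.2)) →
    n * (l.map fun p => xG full.cert p.1 p.2).prod * n⁻¹ =
      (l.map fun p => xG full.cert p.1 (f p.1 * p.2)).prod := by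
  intro l f h
  induction l with
  | nil => simp
  | cons p l ih =>
    rw [List.map_cons, List.prod_cons, conj_mul', h p (by simp), ih fun q hq => h q (List.mem_cons_of_mem _ hq),
      List.map_cons, List.prod_cons]

theorem dW_norm {w : Kˣ} (hw : w ^ (3 : ℤ) = 1) (k : ℤ) : ∀ g ∈ twistedE6 K 2,
    dW w k * g * (dW w k)⁻¹ ∈ twistedE6 K 2 := by
  intro g hg
  induction hg using Subgroup.closure_induction with
  | one => simpa using one_mem _
  | mul a b _ _ ha hb => rw [conj_mul']; exact mul_mem ha hb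
  | inv a _ ha =>
    rw [show dW w k * a⁻¹ * (dW w k)⁻¹ = (dW w k * a * (dW w k)⁻¹)⁻¹ by group]
    exact inv_mem ha
  | mem a ha =>
    obtain ⟨l, hl, hval⟩ := ha
    rw [wordMat_eq_prod full.cert] at hval
    obtain rfl : a = (l.map fun p => xG full.cert p.1 p.2).prod := Units.ext hval
    have hv := vfun_gen
    simp only [List.all_cons, List.all_nil, Bool.and_eq_true, beq_iff_eq, and_true] at hv
    have hgen : ∀ l' ∈ e6Words K 2, (l'.map fun p => xG full.cert p.1 p.2).prod ∈ twistedE6 K 2 :=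
      fun l' hl' => Subgroup.subset_closure ⟨l', hl', by rw [wordMat_eq_prod full.cert]⟩
    have hlt : ∀ p ∈ l, p.1 < chevE6.nroots := by
      rcases hl with ⟨t, -, r, hr, rfl⟩ | ⟨t, rs, hrs, rfl⟩
      · simp [e6p2, e6m2, e6p4, e6m4] at hr
        rcases hr with rfl | rfl | rfl | rfl <;> simp <;> decide
      · simp [e6p1, e6p6, e6m1, e6m6, e6p3, e6p5, e6m3, e6m5] at hrs
        rcases hrs with rfl | rfl | rfl | rfl <;> simp <;> decide
    rw [conj_word (dW w k) l (fun r => (chW w k r : K)) fun p hp => dW_conj w k (hlt p hp) _]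
    rcases hl with ⟨t, ht, r, hr, rfl⟩ | ⟨t, rs, hrs, rfl⟩
    · have h0 : vfun r = 0 := by
        simp [e6p2, e6m2, e6p4, e6m4] at hr
        rcases hr with rfl | rfl | rfl | rfl <;> simp [hv]
      simp only [List.map_cons, List.map_nil, chW, h0, mul_zero, zpow_zero, Units.val_one, one_mul]
      exact hgen [(r, t)] (Or.inl ⟨t, ht, r, hr, rfl⟩)
    · have h0 : vfun rs.2 = -vfun rs.1 := by
        simp [e6p1, e6p6, e6m1, e6m6, e6p3, e6p5, e6m3, e6m5] at hrs
        rcases hrs with rfl | rfl | rfl | rfl <;> simp [hv]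
      have e : ((chW w k rs.2 : Kˣ) : K) * t ^ 2 = (((chW w k rs.1 : Kˣ) : K) * t) ^ 2 := by
        rw [mul_pow, ← Units.val_pow_eq_pow_val, chW, chW, h0]
        congr 2
        rw [← zpow_natCast, ← zpow_mul,
          show k * vfun rs.1 * ((2 : ℕ) : ℤ) = k * -vfun rs.1 + 3 * (k * vfun rs.1) by push_cast; ring,
          zpow_add, zpow_mul w 3, hw, one_zpow, mul_one]
      simp only [List.map_cons, List.map_nil, e]
      exact hgen [(rs.1, _), (rs.2, _)] (Or.inr ⟨_, rs, hrs, rfl⟩)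

/-- The subgroup `F₄(2)`. -/
noncomputable abbrev H0 (K : Type*) [Field K] [CharP K 2] : Subgroup (GL chevE6.Idx K) := (psi K).range

theorem H0_le : H0 K ≤ twistedE6 K 2 := by
  rw [H0, psi_range, Subgroup.closure_le]
  rintro _ ⟨r, hr, rfl⟩
  exact Y_mem S r hr

omit S in
theorem twisted_le_group : twistedE6 K 2 ≤ chevE6.group K := by
  rw [twistedE6, ChevalleyDatum.genSubgroup, Subgroup.closure_le]
  rintro g ⟨l, hl, hg⟩
  rw [wordMat_eq_prod full.cert] at hg
  rw [show g = (l.map fun p => xG full.cert p.1 p.2).prod from Units.ext hg]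
  refine Subgroup.list_prod_mem _ fun x hx => ?_
  obtain ⟨p, hp, rfl⟩ := List.mem_map.1 hx
  exact xG_mem_group full.cert _ _

omit S in
/-- The entrywise Frobenius map. -/
noncomputable def frobG : GL chevE6.Idx K →* GL chevE6.Idx K :=
  Matrix.GeneralLinearGroup.map (frobenius K 2)

omit S in
theorem frobG_X {r : ℕ} (hr : r < chevE6.nroots) (t : K) :
    frobG (xG full.cert r t) = xG full.cert r (t ^ 2) := by
  refine Units.ext ?_
  rw [coe_xG, x_eq_xR chevE6 K hr]
  show (xG full.cert r t : Matrix chevE6.Idx chevE6.Idx K).map (frobenius K 2) = _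
  rw [coe_xG, x_eq_xR chevE6 K hr, xR_map _ full.cert.wf, frobenius_def]

omit S in
theorem orbW_lt : ∀ r : Fin 48, ∀ a ∈ orbW r, a < chevE6.nroots := by decide +kernel

omit S in
theorem frobG_H0 : ∀ g ∈ H0 K, frobG g = g := by
  intro g hg
  rw [H0, psi_range] at hg
  induction hg using Subgroup.closure_induction with
  | one => simp
  | mul a b _ _ ha hb => rw [map_mul, ha, hb]
  | inv a _ ha => rw [map_inv, ha]
  | mem a ha =>
    obtain ⟨r, hr, rfl⟩ := ha
    rw [Y, ev, map_list_prod, List.map_map]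
    refine congrArg List.prod (List.map_congr_left fun a ha => ?_)
    simp [frobG_X (orbW_lt ⟨r, hr⟩ a ha)]

omit S in
theorem co_sq {i : ℕ} (hi : i < chevE6.rank) {c : K} {g : GL chevE6.Idx K}
    (h : Co full.cert i c g) (hg : g ∈ H0 K) : c * c = c := by
  have h2 : Co full.cert i (c ^ 2) g := by
    have hm : ∀ v ∈ rootsU chevE6 K (posButSimple chevE6 i), frobG v ∈ rootsU chevE6 K (posButSimple chevE6 i) := by
      intro v hv
      induction hv using rootsU_induction full.cert with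
      | h1 => simpa using one_mem _
      | hx r hr t => rw [frobG_X hr.1.1]; exact xG_mem_rootsU full.cert hr _
      | hmul a b _ _ ha hb => rw [map_mul]; exact mul_mem ha hb
    have := hm _ h
    rwa [map_mul, map_inv, frobG_X (full.cert.wf.simple_lt i hi), frobG_H0 g hg] at this
  rw [← sq]
  exact h2.unique full hi h

/-- A regular unipotent element of `F₄(2)`. -/
noncomputable def uReg (K : Type*) [Field K] [CharP K 2] : GL chevE6.Idx K := ev [36, 56, 37, 42, 39, 46]

omit S in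
theorem uReg_mem : uReg K ∈ H0 K := by
  have e : uReg K = Y K 33 * Y K 27 * Y K 25 * Y K 24 := by
    simp [uReg, Y, ev, orbW, orbF4, mul_assoc]
  rw [e, H0, psi_range]
  refine mul_mem (mul_mem (mul_mem ?_ ?_) ?_) ?_ <;> exact Subgroup.subset_closure ⟨_, by norm_num, rfl⟩

omit S in
theorem uReg_co {i : ℕ} (hi : i < chevE6.rank) : Co full.cert i (1 : K) (uReg K) := by
  have key : ∀ r, r ∈ ([36, 56, 37, 42, 39, 46] : List ℕ) →
      Co full.cert i (if r = chevE6.simple i then (1 : K) else 0) (X r 1) := by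
    intro r hr
    have hpos : chevE6.IsPosRoot r := isPos (by fin_cases hr <;> decide)
    split_ifs with e
    · subst e; simp [Co, one_mem]
    · simpa [Co, xG_zero] using xG_mem_rootsU (F := K) full.cert (S := posButSimple chevE6 i) ⟨hpos, e⟩ 1
  have h := ((((key 36 (by simp)).mul full hi (key 56 (by simp))).mul full hi (key 37 (by simp))).mul full hi
    (key 42 (by simp))).mul full hi (key 39 (by simp)) |>.mul full hi (key 46 (by simp))
  have hi' : i < 6 := hi
  have hs : chevE6.simple i = [56, 46, 42, 39, 37, 36].getD i 0 := by interval_cases i <;> rfl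
  rw [show uReg K = X 36 1 * X 56 1 * X 37 1 * X 42 1 * X 39 1 * X 46 1 by simp [uReg, ev, mul_assoc]]
  convert h using 1
  rw [hs]
  interval_cases i <;> simp

omit S in
theorem uReg_regular : Regular chevE6 K (uReg K) := by
  refine ⟨?_, fun i hi h => ?_⟩
  · rw [uReg, ev]
    refine Subgroup.list_prod_mem _ fun x hx => ?_
    obtain ⟨r, hr, rfl⟩ := List.mem_map.1 hx
    exact xG_mem_rootsU (S := {r | chevE6.IsPosRoot r}) full.cert (isPos (by fin_cases hr <;> decide)) _
  · exact one_ne_zero ((uReg_co (K := K) hi).unique full hi (show Co full.cert i (0 : K) (uReg K) by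
      simpa [Co, xG_zero] using h))

omit S in
/-- The invariant of the diagonal subgroup. -/
theorem phi_torus (hcard : Nat.card Kˣ = 3) (c : Fin chevE6.rank → Kˣ) :
    chi chevE6 (chevE6.simple 0) c * chi chevE6 (chevE6.simple 2) c ^ (2 : ℤ) *
      chi chevE6 (chevE6.simple 4) c * chi chevE6 (chevE6.simple 5) c ^ (2 : ℤ) = 1 := by
  have hE : ∀ k : Fin 6, (chevE6.cartan k (chevE6.simple 0) + 2 * chevE6.cartan k (chevE6.simple 2) +
      chevE6.cartan k (chevE6.simple 4) + 2 * chevE6.cartan k (chevE6.simple 5)) % 3 = 0 := by decide +kernel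
  have h3 : ∀ x : Kˣ, x ^ (3 : ℤ) = 1 := fun x => by
    rw [show (3 : ℤ) = ((Nat.card Kˣ : ℕ) : ℤ) by rw [hcard]; rfl, zpow_natCast]
    exact pow_card_eq_one'
  have hd : ∀ (x : Fin chevE6.rank → Kˣ) (n : ℤ), (∏ k, x k) ^ n = ∏ k, x k ^ n :=
    fun x n => map_prod (zpowGroupHom n) x Finset.univ
  show (∏ k, c k ^ _) * (∏ k, c k ^ _) ^ (2 : ℤ) * (∏ k, c k ^ _) * (∏ k, c k ^ _) ^ (2 : ℤ) = 1
  rw [hd, hd, ← Finset.prod_mul_distrib, ← Finset.prod_mul_distrib, ← Finset.prod_mul_distrib]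
  refine Finset.prod_eq_one fun k _ => ?_
  rw [← zpow_mul, ← zpow_mul, ← zpow_add, ← zpow_add, ← zpow_add]
  obtain ⟨m, hm⟩ := Int.dvd_of_emod_eq_zero (hE k)
  rw [show chevE6.cartan k (chevE6.simple 0) + chevE6.cartan k (chevE6.simple 2) * 2 +
      chevE6.cartan k (chevE6.simple 4) + chevE6.cartan k (chevE6.simple 5) * 2 = 3 * m by rw [← hm]; ring,
    zpow_mul, h3, one_zpow]

omit S in
theorem vfun_simple : vfun (chevE6.simple 0) = 1 ∧ vfun (chevE6.simple 2) = 0 ∧
    vfun (chevE6.simple 4) = 0 ∧ vfun (chevE6.simple 5) = -1 := by decide +kernel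

variable [Fintype K]

/-- No outer diagonal element times a group element normalises `F₄(2)`. -/
theorem no_normalize {w : Kˣ} (hcard : Nat.card Kˣ = 3) (hw : orderOf w = 3) {m : ℤ} (hm : ¬ (3 : ℤ) ∣ m)
    {g : GL chevE6.Idx K} (hg : g ∈ twistedE6 K 2)
    (hN : ∀ x ∈ H0 K, dW w m * g * x * (dW w m * g)⁻¹ ∈ H0 K) : False := by
  classical
  haveI : Fact (Nat.Prime 2) := ⟨Nat.prime_two⟩
  have hw3 : w ^ (3 : ℤ) = 1 := by
    rw [show (3 : ℤ) = ((orderOf w : ℕ) : ℤ) by rw [hw]; rfl, zpow_natCast, pow_orderOf_eq_one]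
  have hfull : Full chevE6 auxE6 := full
  have hgrp : H0 K ≤ chevE6.group K := (H0_le S).trans twisted_le_group
  let u : H0 K := ⟨uReg K, uReg_mem⟩
  have hup : IsPGroup 2 (Subgroup.zpowers u) := by
    obtain ⟨j, hj⟩ := CfsgLib.OutAut.isPGroup_posUnipotent full ⟨uReg K, (uReg_regular (K := K)).1⟩
    have hu1 : u ^ 2 ^ j = 1 := Subtype.ext (by simpa using congrArg Subtype.val hj)
    obtain ⟨i, -, hi⟩ := (Nat.dvd_prime_pow Nat.prime_two).1 (orderOf_dvd_of_pow_eq_one hu1)
    exact IsPGroup.of_card (n := i) (by rw [Nat.card_zpowers, hi])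
  obtain ⟨P, hP⟩ := hup.exists_le_sylow
  have huP : u ∈ (P : Subgroup (H0 K)) := hP (Subgroup.mem_zpowers u)
  have hPU : ∀ p ∈ (P : Subgroup (H0 K)), (p : GL chevE6.Idx K) ∈ chevE6.posUnipotent K := by
    by_contra hne
    push Not at hne
    obtain ⟨p, hp, hpU⟩ := hne
    set Q : Subgroup (P : Subgroup (H0 K)) :=
      (chevE6.posUnipotent K).comap ((H0 K).subtype.comp (P : Subgroup (H0 K)).subtype) with hQ
    have hlt : Q < ⊤ := lt_of_le_of_ne le_top fun ht =>
      hpU (Subgroup.mem_comap.1 (ht ▸ Subgroup.mem_top (⟨p, hp⟩ : (P : Subgroup (H0 K)))))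
    haveI : Group.IsNilpotent (P : Subgroup (H0 K)) := P.isPGroup'.isNilpotent
    obtain ⟨x, hxN, hxU⟩ := SetLike.exists_of_lt (Group.normalizerCondition_of_isNilpotent _ hlt)
    have hxu : ((x : H0 K) : GL chevE6.Idx K) * uReg K * ((x : H0 K) : GL chevE6.Idx K)⁻¹ ∈
        chevE6.posUnipotent K :=
      Subgroup.mem_comap.1 ((Subgroup.mem_normalizer_iff.1 hxN ⟨u, huP⟩).1
        (Subgroup.mem_comap.2 (uReg_regular (K := K)).1))
    have hxB := mem_borel_of_regular full (hgrp (x : H0 K).2) uReg_regular hxu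
    obtain ⟨v, hv, t, ht, e⟩ := (mem_borel_iff full).1 hxB
    obtain ⟨j, hj⟩ := P.isPGroup' x
    have key : ∀ n : ℕ, ∃ v' ∈ chevE6.posUnipotent K, (v * t) ^ n = v' * t ^ n := by
      intro n
      induction n with
      | zero => exact ⟨1, one_mem _, by simp⟩
      | succ n ih =>
        obtain ⟨v', hv', en⟩ := ih
        exact ⟨v' * (t ^ n * v * (t ^ n)⁻¹),
          mul_mem hv' (diagonal_conj_rootsU full {r | chevE6.IsPosRoot r} (t ^ n) (pow_mem ht n) v hv),
          by rw [pow_succ, en, pow_succ]; group⟩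
    obtain ⟨v', hv', en⟩ := key (2 ^ j)
    have hone : (v * t) ^ 2 ^ j = 1 := by
      rw [← e]; simpa using congrArg (fun z : (P : Subgroup (H0 K)) => ((z : H0 K) : GL chevE6.Idx K)) hj
    rw [hone] at en
    have ht1 : t ^ 2 ^ j = 1 := eq_one_of_mem_pos_diagonal full
      (by rw [show t ^ 2 ^ j = v'⁻¹ by rw [eq_inv_iff_mul_eq_one, ← conj_eq_one_iff (a := v'), en]; group]
          exact inv_mem hv') (pow_mem ht _)
    have hodd := CfsgLib.OutAut.odd_orderOf_diagonal full ht
    obtain ⟨i, -, hi⟩ := (Nat.dvd_prime_pow Nat.prime_two).1 (orderOf_dvd_of_pow_eq_one ht1)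
    have : i = 0 := by
      rw [hi] at hodd
      by_contra h0
      exact (Nat.not_even_iff_odd.2 hodd) (even_two.pow_of_ne_zero h0)
    rw [this, pow_zero, orderOf_eq_one_iff] at hi
    apply hxU
    rw [hQ, Subgroup.mem_comap]
    show ((x : H0 K) : GL chevE6.Idx K) ∈ _
    rw [e, hi, mul_one]
    exact hv
  -- move the Sylow subgroup back
  let α : H0 K →* H0 K :=
    { toFun := fun x => ⟨dW w m * g * x * (dW w m * g)⁻¹, hN x x.2⟩
      map_one' := Subtype.ext (by simp)
      map_mul' := fun a b => Subtype.ext (by simp [mul_assoc]) }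
  have hα : Function.Injective α := fun a b e => Subtype.ext (by
    simpa [α] using congrArg Subtype.val e)
  have hc : Nat.card ((P : Subgroup (H0 K)).map α) = 2 ^ (Nat.card (H0 K)).factorization 2 := by
    rw [← P.card_eq_multiplicity]
    exact (Nat.card_congr ((P : Subgroup (H0 K)).equivMapOfInjective α hα).toEquiv).symm
  obtain ⟨h, hh⟩ := MulAction.exists_smul_eq (H0 K) (Sylow.ofCard _ hc) P
  have hmem : h * α u * h⁻¹ ∈ (P : Subgroup (H0 K)) := by
    have h1 : α u ∈ (Sylow.ofCard _ hc : Sylow 2 (H0 K)) := by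
      show α u ∈ (Sylow.ofCard _ hc : Sylow 2 (H0 K)).toSubgroup
      rw [Sylow.coe_ofCard]
      exact Subgroup.mem_map_of_mem _ huP
    have h2 : h * α u * h⁻¹ ∈ (h • Sylow.ofCard _ hc : Sylow 2 (H0 K)) :=
      Subgroup.smul_mem_pointwise_smul (α u) (MulAut.conj h) _ h1
    rw [hh] at h2
    exact h2
  set g' : GL chevE6.Idx K := dW w (-m) * (h : GL chevE6.Idx K) * dW w m * g with hg'
  have hg'G : g' ∈ twistedE6 K 2 := by
    refine mul_mem ?_ hg
    have := dW_norm S hw3 (-m) _ (H0_le S h.2)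
    rwa [dW_inv, neg_neg] at this
  set y : GL chevE6.Idx K := ((h * α u * h⁻¹ : H0 K) : GL chevE6.Idx K) with hy
  have ey : y = dW w m * (g' * uReg K * g'⁻¹) * (dW w m)⁻¹ := by
    rw [hy, hg', ← dW_inv]
    show (h : GL chevE6.Idx K) * (dW w m * g * uReg K * (dW w m * g)⁻¹) * (h : GL chevE6.Idx K)⁻¹ = _
    group
  have hconjU : ∀ k : ℤ, ∀ z ∈ chevE6.posUnipotent K, dW w k * z * (dW w k)⁻¹ ∈ chevE6.posUnipotent K := by
    intro k
    exact rootsU_conj_le full.cert fun r hr t => by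
      rw [dW_conj w k hr.1]
      exact xG_mem_rootsU full.cert hr _
  have hU : g' * uReg K * g'⁻¹ ∈ chevE6.posUnipotent K := by
    have := hconjU (-m) _ (hPU _ hmem)
    rwa [← hy, ey, ← dW_inv, show (dW w m)⁻¹ * (dW w m * (g' * uReg K * g'⁻¹) * (dW w m)⁻¹) * (dW w m)⁻¹⁻¹ =
      g' * uReg K * g'⁻¹ by group] at this
  obtain ⟨v, hv, t, ht, e⟩ :=
    (mem_borel_iff full).1 (mem_borel_of_regular full (twisted_le_group hg'G) uReg_regular hU)
  rw [diagonalSubgroup_eq_range full] at ht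
  obtain ⟨c, rfl⟩ := ht
  have hchi : ∀ i : Fin chevE6.rank,
      chi chevE6 (chevE6.simple i) c = w ^ (-m * vfun (chevE6.simple i)) := by
    intro i
    have hs := full.cert.wf.simple_lt i i.isLt
    have h1 := Co.conj_scale full (n := torusHom chevE6 K c) (f := fun r => ((chi chevE6 r c : Kˣ) : K))
      (fun r hr t => (acts_torus full.cert c).conj ⟨r, hr⟩ t) i.isLt (uReg_co (K := K) i.isLt)
    have h2 := Co.conj full i.isLt h1 hv
    have h3 := Co.conj_scale full (n := dW w m) (f := fun r => (chW w m r : K))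
      (fun r hr t => dW_conj w m hr t) i.isLt h2
    rw [show dW w m * (v * (torusHom chevE6 K c * uReg K * (torusHom chevE6 K c)⁻¹) * v⁻¹) * (dW w m)⁻¹ = y by
      rw [ey, e]; group] at h3
    have h4 := co_sq i.isLt h3 (h * α u * h⁻¹).2
    simp only [mul_one, ← Units.val_mul] at h4
    have h5 : chW w m (chevE6.simple i) * chi chevE6 (chevE6.simple i) c = 1 := by
      have := Units.ext h4
      exact mul_eq_left.1 this
    rw [eq_inv_of_mul_eq_one_right h5, chW, ← zpow_neg, neg_mul]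
  have hphi := phi_torus hcard c
  obtain ⟨a0, a2, a4, a5⟩ := vfun_simple
  rw [hchi ⟨0, by decide⟩, hchi ⟨2, by decide⟩, hchi ⟨4, by decide⟩, hchi ⟨5, by decide⟩, a0, a2, a4, a5,
    ← zpow_mul, ← zpow_mul, ← zpow_add, ← zpow_add, ← zpow_add] at hphi
  have := orderOf_dvd_iff_zpow_eq_one.2 hphi
  rw [hw] at this
  exact hm (by omega)

/-- Three pairwise non-conjugate subgroups isomorphic to `F₄(2)`. -/
theorem exists_three {w : Kˣ} (hcard : Nat.card Kˣ = 3) (hw : orderOf w = 3) :
    ∃ H : Fin 3 → Subgroup (twistedE6 K 2),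
      (∀ i, Nonempty ((H i) ≃* chevF4.group (ZMod 2))) ∧
      (∀ i j, i ≠ j → ∀ g : twistedE6 K 2, (H i).map (MulAut.conj g).toMonoidHom ≠ H j) := by
  have hw3 : w ^ (3 : ℤ) = 1 := by
    rw [show (3 : ℤ) = ((orderOf w : ℕ) : ℤ) by rw [hw]; rfl, zpow_natCast, pow_orderOf_eq_one]
  let φ : Fin 3 → (chevF4.group (ZMod 2) →* twistedE6 K 2) := fun i =>
    ((MulAut.conj (dW w (i : ℕ))).toMonoidHom.comp (psi K)).codRestrict (twistedE6 K 2) fun x =>
      dW_norm S hw3 _ _ (H0_le S ⟨x, rfl⟩)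
  have hφ : ∀ i x, (φ i x : GL chevE6.Idx K) = dW w (i : ℕ) * psi K x * (dW w (i : ℕ))⁻¹ := fun i x => rfl
  have hinj : ∀ i, Function.Injective (φ i) := fun i a b e => psi_injective K (by
    simpa [hφ] using congrArg Subtype.val e)
  refine ⟨fun i => (φ i).range, fun i => ⟨(MonoidHom.ofInjective (hinj i)).symm⟩, fun i j hij g he => ?_⟩
  have hm : ¬ (3 : ℤ) ∣ ((i : ℕ) : ℤ) - ((j : ℕ) : ℤ) := by
    have := i.isLt; have := j.isLt; have : (i : ℕ) ≠ j := fun e => hij (Fin.ext e); omega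
  refine no_normalize S hcard hw hm
    (g := dW w (-((i : ℕ) : ℤ)) * (g : GL chevE6.Idx K) * (dW w (-((i : ℕ) : ℤ)))⁻¹) (dW_norm S hw3 _ _ g.2) ?_
  rintro _ ⟨x, rfl⟩
  have hx : MulAut.conj g (φ i x) ∈ (φ j).range := by
    simp only at he
    rw [← he]; exact Subgroup.mem_map_of_mem _ ⟨x, rfl⟩
  obtain ⟨x', hx'⟩ := hx
  refine ⟨x', ?_⟩
  have e := congrArg Subtype.val hx'
  rw [hφ, MulAut.conj_apply, Subgroup.coe_mul, Subgroup.coe_mul, Subgroup.coe_inv, hφ] at e
  have e2 : psi K x' = (dW w (j : ℕ))⁻¹ * ((g : GL chevE6.Idx K) * (dW w (i : ℕ) * psi K x * (dW w (i : ℕ))⁻¹) *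
      (g : GL chevE6.Idx K)⁻¹) * dW w (j : ℕ) := by rw [← e]; group
  rw [e2, sub_eq_neg_add, ← dW_mul, ← dW_inv, ← dW_inv]
  group

end CfsgLib.TwistedE6F4
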