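import Cfsg.Agent.Lib.TwistedE6Involutions.Group
import Cfsg.Agent.Lib.SteinbergPres.Kernel
import Cfsg.Agent.Lib.SteinbergPres.StCertF4
import Cfsg.Agent.Lib.Chevalley.SimpleData

/-!
`F₄(2)` inside `²E₆(2)`: the orbit elements satisfy Steinberg's relations of type `F₄` over two elements.
-/

set_option autoImplicit false
set_option linter.all false
set_option maxRecDepth 20000
set_option maxHeartbeats 1000000

namespace CfsgLib.TwistedE6F4

open Cfsg.Lie CfsgLib.Chevalley CfsgLib.TwistedE6Involutions

/-- The orbit of roots of `E₆` over each root of `F₄`. -/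
def orbF4 : List (List ℕ) := [[0], [1], [2], [3, 5], [6], [8], [11], [4, 16], [7, 17], [9, 19], [12, 26], [10, 22], [13, 30], [14, 33], [15, 35], [18], [20], [27], [21, 23], [28, 31], [29, 34], [24], [32], [25], [46], [39], [47], [37, 42], [40, 43], [48, 50], [44], [51], [53], [36, 56], [38, 57], [41, 58], [49, 61], [45, 59], [52, 62], [54, 64], [55, 67], [60], [63], [65], [66, 68], [69], [70], [71]]

/-- The roots of the commutator word with odd coefficient. -/
def oddTerms (D : ChevalleyDatum) (r s : ℕ) : List ℕ :=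
  ((D.commTerms r s).filter fun c => c.2.1 % 2 != 0).map Prod.fst

/-- The two roots may be swapped. -/
def swapOK (r e : ℕ) : Bool := decide (r < 72) && decide (e < 72) && (e != chevE6.neg r)

/-- Insert a root element with parameter one into a sorted word. -/
def ins : ℕ → ℕ → List ℕ → List ℕ
  | _, e, [] => [e]
  | 0, e, r :: l => e :: r :: l
  | n + 1, e, r :: l =>
    if e == r then l
    else if decide (r < e) && swapOK r e then
      ins n r ((e :: oddTerms chevE6 r e).foldr (ins n) l)
    else e :: r :: l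

/-- Normal form of a word in root elements with parameter one. -/
def norm (w : List ℕ) : List ℕ := w.foldr (ins 60) []

variable {K : Type*} [Field K] [CharP K 2]

/-- Value of a word. -/
noncomputable def ev (w : List ℕ) : GL chevE6.Idx K := (w.map fun r => X r (1 : K)).prod

omit [CharP K 2] in
theorem ev_cons (e : ℕ) (w : List ℕ) : (ev (e :: w) : GL chevE6.Idx K) = X e 1 * ev w := by simp [ev]

omit [CharP K 2] in
theorem ev_append (v w : List ℕ) : (ev (v ++ w) : GL chevE6.Idx K) = ev v * ev w := by simp [ev]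

theorem cast_parity (c : ℤ) : (c : K) = if c % 2 != 0 then 1 else 0 := by
  rcases Int.emod_two_eq_zero_or_one c with h | h
  · obtain ⟨k, rfl⟩ := Int.dvd_of_emod_eq_zero h
    simp [CharTwo.two_eq_zero]
  · obtain ⟨k, rfl⟩ : ∃ k, c = 2 * k + 1 := ⟨c / 2, by omega⟩
    simp [CharTwo.two_eq_zero]

theorem ev_terms (r s : ℕ) (R : GL chevE6.Idx K) :
    ((chevE6.commTerms r s).map fun c => X c.1 ((c.2.1 : K) * 1 ^ c.2.2.1 * 1 ^ c.2.2.2)).prod * R =
      ev (oddTerms chevE6 r s) * R := by
  congr 1
  simp only [oddTerms, one_pow, mul_one]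
  induction chevE6.commTerms r s with
  | nil => simp [ev]
  | cons c l ih =>
    rw [List.map_cons, List.prod_cons, ih, List.filter_cons, cast_parity c.2.1]
    cases (c.2.1 % 2 != 0) <;> simp [ev, xG_zero]

theorem sq_one (e : ℕ) (R : GL chevE6.Idx K) : X e 1 * (X e 1 * R) = R := by
  rw [← mul_assoc, xG_mul, CharTwo.add_self_eq_zero, xG_zero, one_mul]

theorem ev_ins : ∀ (n e : ℕ) (l : List ℕ), (ev (ins n e l) : GL chevE6.Idx K) = X e 1 * ev l := by
  intro n
  induction n with
  | zero =>
    intro e l
    cases l <;> simp [ins, ev]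
  | succ n ih =>
    intro e l
    cases l with
    | nil => simp [ins, ev]
    | cons r l =>
      simp only [ins]
      split_ifs with h1 h2
      · obtain rfl := beq_iff_eq.1 h1
        rw [ev_cons, sq_one]
      · simp only [Bool.and_eq_true, decide_eq_true_eq, swapOK, bne_iff_ne] at h2
        obtain ⟨hlt, ⟨hr, he⟩, hne⟩ := h2
        have hf : ∀ w : List ℕ, (ev (w.foldr (ins n) l) : GL chevE6.Idx K) = ev w * ev l := by
          intro w
          induction w with
          | nil => simp [ev]
          | cons a w iw => rw [List.foldr_cons, ih, iw, ev_cons, mul_assoc]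
        rw [ih, hf, ev_cons e, ev_cons r, mul_assoc, swap (show r < chevE6.nroots from hr)
          (show e < chevE6.nroots from he) (Nat.ne_of_gt hlt) hne, ev_terms]
      · rw [ev_cons, ev_cons]

theorem ev_norm (w : List ℕ) : (ev (norm w) : GL chevE6.Idx K) = ev w := by
  induction w with
  | nil => rfl
  | cons e w ih =>
    show ev (ins 60 e (norm w)) = _
    rw [ev_ins, ih, ev_cons]

theorem ev_congr {v w : List ℕ} (h : (norm v == norm w) = true) : (ev v : GL chevE6.Idx K) = ev w := by
  rw [← ev_norm v, ← ev_norm w, beq_iff_eq.1 h]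

/-- The orbit word of a root of `F₄`. -/
def orbW (r : ℕ) : List ℕ := orbF4.getD r []

theorem checks : ((List.range 48).all fun r => (norm (orbW r ++ orbW r) == norm []) &&
    (List.range 48).all fun s => ((chevF4.commTerms r s).all fun c => decide (0 < c.2.2.1 ∧ 0 < c.2.2.2)) &&
      ((s == r) || (s == chevF4.neg r) ||
        (norm (orbW s ++ orbW r ++ orbW s ++ orbW r) == norm ((oddTerms chevF4 r s).flatMap orbW)))) = true := by
  decide +kernel

variable (K)

/-- The orbit element. -/
noncomputable def Y (r : ℕ) : GL chevE6.Idx K := ev (orbW r)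

/-- The orbit element as a one-parameter group over two elements. -/
noncomputable def Yt (r : ℕ) (t : ZMod 2) : GL chevE6.Idx K := if t = 0 then 1 else Y K r

variable {K}

theorem Y_sq {r : ℕ} (hr : r < 48) : Y K r * Y K r = 1 := by
  have h := checks
  simp only [List.all_eq_true, List.mem_range, Bool.and_eq_true] at h
  rw [Y, ← ev_append, ev_congr (h r hr).1]
  rfl

theorem Y_comm {r s : ℕ} (hr : r < 48) (hs : s < 48) (h1 : s ≠ r) (h2 : s ≠ chevF4.neg r) :
    Y K s * Y K r * Y K s * Y K r = ((oddTerms chevF4 r s).map (Y K)).prod := by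
  have h := checks
  simp only [List.all_eq_true, List.mem_range, Bool.and_eq_true, Bool.or_eq_true, beq_iff_eq] at h
  have e := (((h r hr).2 s hs).2.resolve_left (by tauto))
  simp only [Y, ← ev_append]
  rw [ev_congr (beq_iff_eq.2 e)]
  induction oddTerms chevF4 r s with
  | nil => rfl
  | cons a l ih => rw [List.flatMap_cons, ev_append, ih]; rfl

theorem terms_pos {r s : ℕ} (hr : r < 48) (hs : s < 48) {c : ℕ × ℤ × ℕ × ℕ} (hc : c ∈ chevF4.commTerms r s) :
    0 < c.2.2.1 ∧ 0 < c.2.2.2 := by
  have h := checks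
  simp only [List.all_eq_true, List.mem_range, Bool.and_eq_true, decide_eq_true_eq] at h
  exact ((h r hr).2 s hs).1 c hc

theorem Yt_rels : ∀ g ∈ chevF4.steinbergRels (ZMod 2),
    FreeGroup.lift (fun p : Fin chevF4.nroots × ZMod 2 => Yt K p.1 p.2) g = 1 := by
  have two : ∀ t : ZMod 2, t = 0 ∨ t = 1 := by decide
  have hx : ∀ (r : ℕ), r < chevF4.nroots → ∀ t : ZMod 2,
      FreeGroup.lift (fun p : Fin chevF4.nroots × ZMod 2 => Yt K p.1 p.2) (chevF4.stX r t) = Yt K r t :=
    fun r hr t => CfsgLib.SteinbergPres.lift_stX (fun r t => Yt K r t) hr t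
  have hw : ∀ w : List (ℕ × ZMod 2), (∀ p ∈ w, p.1 < chevF4.nroots) →
      FreeGroup.lift (fun p : Fin chevF4.nroots × ZMod 2 => Yt K p.1 p.2) (chevF4.stWord w) =
        (w.map fun p => Yt K p.1 p.2).prod := by
    intro w hw
    rw [CfsgLib.SteinbergPres.map_stWord]
    exact congrArg List.prod (List.map_congr_left fun p hp => hx _ (hw p hp) _)
  have one : ∀ r, Yt K r (1 : ZMod 2) = Y K r := fun r => by simp [Yt]
  have zero : ∀ r, Yt K r (0 : ZMod 2) = 1 := fun r => by simp [Yt]
  have inv : ∀ r, r < 48 → ∀ t : ZMod 2, (Yt K r t)⁻¹ = Yt K r t := fun r hr t => by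
    rcases two t with rfl | rfl
    · simp [zero]
    · rw [one]; exact inv_eq_of_mul_eq_one_left (Y_sq hr)
  rintro g ((⟨r, t, u, hr, rfl⟩ | ⟨r, s, t, u, hr, hs, h1, h2, rfl⟩) | ⟨r, t, u, hr, ht, hu, rfl⟩)
  · simp only [map_mul, map_inv, hx r hr, inv r hr]
    rcases two t with rfl | rfl <;> rcases two u with rfl | rfl <;>
      simp [zero, one, show (1 : ZMod 2) + 1 = 0 from by decide, Y_sq (show r < 48 from hr)]
  · have hlt : ∀ p ∈ chevF4.commWord (ZMod 2) r s t u, p.1 < chevF4.nroots := by
      intro p hp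
      obtain ⟨c, hc, rfl⟩ := List.mem_map.1 hp
      exact (CfsgLib.Twisted.fullF4.pos.commTerms_phi CfsgLib.Twisted.fullF4.cert hr hs hc).1
    rw [map_mul, map_mul, map_mul, map_mul, map_inv, map_inv, map_inv, hx r hr, hx s hs, hw _ hlt, inv r hr,
      inv s hs, mul_inv_eq_one, ChevalleyDatum.commWord, List.map_map]
    by_cases hz : t = 0 ∨ u = 0
    · have hp : (List.map ((fun p : ℕ × ZMod 2 => Yt K p.1 p.2) ∘
          fun c : ℕ × ℤ × ℕ × ℕ => (c.1, (c.2.1 : ZMod 2) * (-t) ^ c.2.2.1 * u ^ c.2.2.2))
            (chevF4.commTerms r s)).prod = 1 := by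
        refine List.prod_eq_one fun x hx => ?_
        obtain ⟨c, hc, rfl⟩ := List.mem_map.1 hx
        obtain ⟨h0, h0'⟩ := terms_pos hr hs hc
        rcases hz with rfl | rfl <;> simp [zero, zero_pow h0.ne', zero_pow h0'.ne']
      rw [hp]
      rcases hz with rfl | rfl
      · simp only [zero, mul_one]
        rcases two u with rfl | rfl <;> simp [zero, one, Y_sq (show s < 48 from hs)]
      · simp only [zero, mul_one, one_mul]
        rcases two t with rfl | rfl <;> simp [zero, one, Y_sq (show r < 48 from hr)]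
    · push Not at hz
      obtain rfl := (two t).resolve_left hz.1
      obtain rfl := (two u).resolve_left hz.2
      rw [one, one, Y_comm hr hs h1 h2, oddTerms]
      induction chevF4.commTerms r s with
      | nil => simp
      | cons c l ih =>
        rw [List.filter_cons, List.map_cons, List.prod_cons, ← ih]
        rw [Function.comp_apply, show (-1 : ZMod 2) = 1 from by decide, one_pow, one_pow, mul_one, mul_one,
          cast_parity c.2.1]
        cases (c.2.1 % 2 != 0) <;> simp [zero, one]
  · obtain rfl := (two t).resolve_left ht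
    obtain rfl := (two u).resolve_left hu
    have hn : chevF4.neg r < 48 := CfsgLib.Twisted.fullF4.cert.wf.neg_lt r hr
    have h1 : FreeGroup.lift (fun p : Fin chevF4.nroots × ZMod 2 => Yt K p.1 p.2) (chevF4.stH r 1) = 1 := by
      rw [ChevalleyDatum.stH, hw]
      · simp only [ChevalleyDatum.hWord, ChevalleyDatum.nWord, List.cons_append, List.nil_append, List.map_cons,
          List.map_nil, List.prod_cons, List.prod_nil, mul_one, inv_one, show (-1 : ZMod 2) = 1 from by decide,
          neg_neg, inv_neg, one]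
        have a : ∀ R, Y K r * (Y K r * R) = R := fun R => by rw [← mul_assoc, Y_sq (show r < 48 from hr), one_mul]
        have b : ∀ R, Y K (chevF4.neg r) * (Y K (chevF4.neg r) * R) = R := fun R => by
          rw [← mul_assoc, Y_sq hn, one_mul]
        rw [a, b, Y_sq (show r < 48 from hr)]
      · intro p hp
        simp only [ChevalleyDatum.hWord, ChevalleyDatum.nWord, List.cons_append, List.nil_append, List.mem_cons,
          List.not_mem_nil, or_false] at hp
        rcases hp with rfl | rfl | rfl | rfl | rfl | rfl <;> first | exact hr | exact hn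
    simp only [map_mul, map_inv, mul_one, h1, inv_one]

variable (K)

/-- The map from Steinberg's group. -/
noncomputable def psiSt : chevF4.SteinbergGroup (ZMod 2) →* GL chevE6.Idx K :=
  PresentedGroup.toGroup (Yt_rels (K := K))

theorem psiSt_gen {r : ℕ} (hr : r < 48) : psiSt K (chevF4.stGen (ZMod 2) r 1) = Y K r := by
  rw [psiSt]
  exact (CfsgLib.SteinbergPres.lift_stX (fun r t => Yt K r t) (D := chevF4) hr (1 : ZMod 2)).trans (by simp [Yt])

/-- The map onto `F₄(2)`. -/
noncomputable def thetaF4 : chevF4.SteinbergGroup (ZMod 2) →* ↥(chevF4.group (ZMod 2)) :=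
  (CfsgLib.SteinbergPres.theta CfsgLib.Twisted.fullF4).codRestrict _
    (CfsgLib.SteinbergPres.theta_mem CfsgLib.Twisted.fullF4)

theorem thetaF4_bijective : Function.Bijective thetaF4 := by
  refine ⟨(injective_iff_map_eq_one thetaF4).2 fun g hg => ?_, ?_⟩
  · have h := CfsgLib.SteinbergPres.StCert.ker_le_tor CfsgLib.Twisted.fullF4 CfsgLib.SteinbergPres.stCertF4
      (CfsgLib.SteinbergPres.stEdgeF4 (ZMod 2)) (congrArg Subtype.val hg)
    have e : CfsgLib.SteinbergPres.torSt chevF4 (ZMod 2) = ⊥ := by
      rw [CfsgLib.SteinbergPres.torSt, Subgroup.closure_eq_bot_iff]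
      rintro x ⟨i, c, hi, hc, rfl⟩
      obtain rfl : c = 1 := (by decide : ∀ t : ZMod 2, t ≠ 0 → t = 1) c hc
      exact CfsgLib.SteinbergPres.hSt_one CfsgLib.Twisted.fullF4 hi
    rwa [e, Subgroup.mem_bot] at h
  · rintro ⟨x, hx⟩
    rw [← CfsgLib.SteinbergPres.theta_range CfsgLib.Twisted.fullF4] at hx
    obtain ⟨g, rfl⟩ := hx
    exact ⟨g, rfl⟩

/-- The embedding of `F₄(2)`. -/
noncomputable def psi : chevF4.group (ZMod 2) →* GL chevE6.Idx K :=
  (psiSt K).comp (MulEquiv.ofBijective thetaF4 thetaF4_bijective).symm.toMonoidHom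

theorem psi_apply (y : chevF4.SteinbergGroup (ZMod 2)) :
    psi K (MulEquiv.ofBijective thetaF4 thetaF4_bijective y) = psiSt K y :=
  congrArg (psiSt K) (MulEquiv.symm_apply_apply (MulEquiv.ofBijective thetaF4 thetaF4_bijective) y)

theorem psi_injective : Function.Injective (psi K) := by
  have := (CfsgLib.Chevalley.simpleF4 (F := ZMod 2)).1
  have hn : (psi K).ker.Normal := inferInstance
  rcases hn.eq_bot_or_eq_top with h | h
  · exact (MonoidHom.ker_eq_bot_iff _).1 h
  · exfalso
    have h33 : Y K 33 = 1 := by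
      rw [← psiSt_gen K (r := 33) (by norm_num)]
      have := MonoidHom.mem_ker.1 (h ▸ Subgroup.mem_top
        ((MulEquiv.ofBijective thetaF4 thetaF4_bijective) (chevF4.stGen (ZMod 2) 33 1)))
      rwa [psi_apply] at this
    have e : Y K 33 = D 36 56 1 1 := by simp [Y, ev, orbW, orbF4, D]
    rw [e] at h33
    have h' : UL (RingHom.id K) 1 0 0 0 0 0 0 0 0 = UL (RingHom.id K) 0 0 0 0 0 0 0 0 0 := by
      simpa [UL, D, xG_zero] using h33
    e6_coords_at h'
    exact one_ne_zero h'.1

theorem psi_range : (psi K).range = Subgroup.closure {g | ∃ r < 48, g = Y K r} := by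
  apply le_antisymm
  · rintro _ ⟨x, rfl⟩
    obtain ⟨y, rfl⟩ := (MulEquiv.ofBijective thetaF4 thetaF4_bijective).surjective x
    have : y ∈ (Subgroup.closure {g | ∃ r < 48, g = Y K r}).comap (psiSt K) := by
      refine PresentedGroup.generated_by _ _ ?_ y
      rintro ⟨⟨r, hr⟩, t⟩
      rw [Subgroup.mem_comap, psiSt, PresentedGroup.toGroup.of]
      show Yt K r t ∈ _
      unfold Yt
      split_ifs
      · exact one_mem _
      · exact Subgroup.subset_closure ⟨r, hr, rfl⟩
    rw [psi_apply]
    exact this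
  · rw [Subgroup.closure_le]
    rintro _ ⟨r, hr, rfl⟩
    exact ⟨MulEquiv.ofBijective thetaF4 thetaF4_bijective (chevF4.stGen (ZMod 2) r 1), by rw [psi_apply, psiSt_gen K hr]⟩

end CfsgLib.TwistedE6F4
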